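import Mathlib

open Polynomial Matrix

namespace Groth.Agent.Helper5.Jacobi

universe u v
variable {R : Type u} [CommRing R] {m : Type v} [Fintype m] [DecidableEq m]

/-- Jacobi's formula, column form -/
theorem derivative_det (M : Matrix m m R[X]) :
    derivative M.det = ∑ j, (M.updateCol j (fun k => derivative (M k j))).det := by
  simp only [Matrix.det_apply, map_sum]
  rw [Finset.sum_comm]
  refine Finset.sum_congr rfl fun σ _ => ?_
  rw [← Finset.smul_sum]
  rw [show derivative (Equiv.Perm.sign σ • ∏ i, M (σ i) i) =
      Equiv.Perm.sign σ • derivative (∏ i, M (σ i) i) by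
    rcases Int.units_eq_one_or (Equiv.Perm.sign σ) with h | h <;> simp [h]]
  congr 1
  rw [derivative_prod_finset]
  refine Finset.sum_congr rfl fun j _ => ?_
  rw [← Finset.mul_prod_erase Finset.univ _ (Finset.mem_univ j), Matrix.updateCol_self, mul_comm]
  congr 1
  refine Finset.prod_congr rfl fun i hi => ?_
  rw [Matrix.updateCol_ne (Finset.ne_of_mem_erase hi)]

/-- Jacobi's formula, adjugate form -/
theorem derivative_det' (M : Matrix m m R[X]) :
    derivative M.det = (M.adjugate * M.map derivative).trace := by
  rw [derivative_det, Matrix.trace]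
  refine Finset.sum_congr rfl fun j _ => ?_
  rw [← Matrix.cramer_apply, Matrix.cramer_eq_adjugate_mulVec, Matrix.diag_apply, Matrix.mul_apply,
    Matrix.mulVec, dotProduct]
  rfl

end Groth.Agent.Helper5.Jacobi

namespace Groth.Agent.Helper5.Jacobi

universe u v
variable {R : Type u} [CommRing R] {m : Type v} [Fintype m] [DecidableEq m]

/-- the coercion ring hom `R[X] → R⟦X⟧` -/
noncomputable abbrev ι : R[X] →+* PowerSeries R := Polynomial.coeToPowerSeries.ringHom

/-- the matrix `1 - X • A` over `R[X]` -/
noncomputable def Mx (A : Matrix m m R) : Matrix m m R[X] := 1 - (X : R[X]) • A.map C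

lemma charpolyRev_eq (A : Matrix m m R) : A.charpolyRev = (Mx A).det := rfl

lemma Mx_map_derivative (A : Matrix m m R) : (Mx A).map derivative = -(A.map C) := by
  ext i j
  simp only [Mx, Matrix.map_apply, Matrix.sub_apply, Matrix.smul_apply, smul_eq_mul,
    Matrix.neg_apply, map_sub, derivative_mul, derivative_X, derivative_C, one_mul, mul_zero,
    add_zero]
  by_cases h : i = j
  · subst h; simp
  · simp [Matrix.one_apply_ne h]

/-- the geometric series `Σ Aⁿ Xⁿ` as a matrix of power series -/
noncomputable def Sinf (A : Matrix m m R) : Matrix m m (PowerSeries R) :=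
  Matrix.of fun i j => PowerSeries.mk fun n => (A ^ n) i j

lemma Mx_mul_Sinf (A : Matrix m m R) : (Mx A).map ι * Sinf A = 1 := by
  ext i j : 1
  rw [Matrix.mul_apply]
  ext n
  rw [map_sum]
  have hterm : ∀ k, PowerSeries.coeff n (((Mx A).map ι) i k * Sinf A k j) =
      (if i = k then (A ^ n) k j else 0) - (if n = 0 then 0 else A i k * (A ^ (n - 1)) k j) := by
    intro k
    simp only [Mx, Sinf, Matrix.map_apply, Matrix.sub_apply, Matrix.smul_apply, smul_eq_mul,
      Matrix.of_apply, map_sub, map_mul, Polynomial.coeToPowerSeries.ringHom_apply,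
      Polynomial.coe_X, Polynomial.coe_C, sub_mul]
    congr 1
    · by_cases h : i = k
      · subst h; simp
      · simp [Matrix.one_apply_ne h, h]
    · cases n with
      | zero => simp [mul_assoc]
      | succ n =>
        rw [mul_assoc, PowerSeries.coeff_succ_X_mul, PowerSeries.coeff_C_mul]
        simp
  simp only [hterm, Finset.sum_sub_distrib, Finset.sum_ite_eq, Finset.mem_univ, if_true]
  cases n with
  | zero =>
    simp [Matrix.one_apply]
  | succ n =>
    simp only [Nat.succ_ne_zero, if_false, Nat.add_sub_cancel]
    rw [pow_succ', Matrix.mul_apply, sub_self]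
    rw [Matrix.one_apply]
    by_cases h : i = j <;> simp [h]

theorem logDeriv (A : Matrix m m R) :
    ((-(X * Polynomial.derivative A.charpolyRev) : R[X]) : PowerSeries R) =
      (A.charpolyRev : PowerSeries R) * PowerSeries.mk (fun n => if n = 0 then 0 else (A ^ n).trace) := by
  have hadj : ((Mx A).adjugate).map ι = (ι (Mx A).det) • Sinf A := by
    have h1 : ((Mx A).adjugate).map ι = ((Mx A).map ι).adjugate := by
      rw [← RingHom.mapMatrix_apply, ← RingHom.mapMatrix_apply, RingHom.map_adjugate]
    rw [h1]
    calc ((Mx A).map ι).adjugate = ((Mx A).map ι).adjugate * ((Mx A).map ι * Sinf A) := by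
          rw [Mx_mul_Sinf, mul_one]
      _ = (((Mx A).map ι).adjugate * (Mx A).map ι) * Sinf A := by rw [Matrix.mul_assoc]
      _ = (ι (Mx A).det) • Sinf A := by
          rw [Matrix.adjugate_mul, Matrix.smul_mul, Matrix.one_mul]
          congr 1
          rw [← RingHom.mapMatrix_apply, ← RingHom.map_det]
  have hder : derivative A.charpolyRev = -((Mx A).adjugate * A.map C).trace := by
    rw [charpolyRev_eq, derivative_det', Mx_map_derivative, Matrix.mul_neg, Matrix.trace_neg]
  have htr : ι ((Mx A).adjugate * A.map C).trace =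
      ι (Mx A).det * (Sinf A * A.map (PowerSeries.C)).trace := by
    have : ι ((Mx A).adjugate * A.map C).trace = (((Mx A).adjugate * A.map C).map ι).trace := by
      simp only [Matrix.trace, Matrix.diag_apply, map_sum, Matrix.map_apply]
    rw [this, Matrix.map_mul, hadj, Matrix.smul_mul, Matrix.trace_smul, smul_eq_mul]
    congr 3
    ext i j
    simp
  rw [hder]
  show ι (-(X * -((Mx A).adjugate * A.map C).trace)) = ι A.charpolyRev * _
  rw [mul_neg, neg_neg, map_mul, htr, charpolyRev_eq]
  rw [mul_left_comm]
  congr 1
  ext n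
  rw [Polynomial.coeToPowerSeries.ringHom_apply, Polynomial.coe_X, PowerSeries.coeff_mk]
  cases n with
  | zero => simp
  | succ n =>
    rw [PowerSeries.coeff_succ_X_mul, if_neg (Nat.succ_ne_zero n), Matrix.trace, map_sum,
      Matrix.trace, pow_succ]
    refine Finset.sum_congr rfl fun i _ => ?_
    rw [Matrix.diag_apply, Matrix.diag_apply, Matrix.mul_apply, Matrix.mul_apply, map_sum]
    refine Finset.sum_congr rfl fun k _ => ?_
    simp [Sinf, PowerSeries.coeff_mul_C]

end Groth.Agent.Helper5.Jacobi
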