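import Mathlib
import Groth.Agent.Lib.Helper5.Zeta.Jacobi

open PowerSeries

namespace Groth.Agent.Helper5.Jacobi

universe u v

theorem detExp {K : Type u} [Field K] [CharZero K]
    {n : Type v} [Fintype n] [DecidableEq n] (M : Matrix n n K) :
    ((M.charpolyRev : Polynomial K) : PowerSeries K) =
      PowerSeries.subst (PowerSeries.mk fun m : ℕ => -(Matrix.trace (M ^ m)) / (m : K))
        (PowerSeries.exp K) := by
  set S : PowerSeries K := PowerSeries.mk fun m : ℕ => -(Matrix.trace (M ^ m)) / (m : K) with hS
  set P : PowerSeries K := ((M.charpolyRev : Polynomial K) : PowerSeries K) with hP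
  set E : PowerSeries K := (PowerSeries.exp K).subst S with hE
  have hS0 : constantCoeff S = 0 := by
    simp [hS, ← coeff_zero_eq_constantCoeff_apply]
  have hsub : HasSubst S := HasSubst.of_constantCoeff_zero' hS0
  have hE' : d⁄dX K E = E * d⁄dX K S := by
    rw [hE, derivative_subst hsub, derivative_exp]
  have hXS : (X : PowerSeries K) * d⁄dX K S =
      -PowerSeries.mk (fun m => if m = 0 then 0 else (M ^ m).trace) := by
    ext m
    cases m with
    | zero => simp
    | succ m =>
      rw [coeff_succ_X_mul, coeff_derivative, hS, coeff_mk, map_neg, coeff_mk,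
        if_neg (Nat.succ_ne_zero m)]
      have : ((m + 1 : ℕ) : K) ≠ 0 := Nat.cast_ne_zero.mpr (Nat.succ_ne_zero m)
      push_cast at this ⊢
      field_simp
  have hP' : d⁄dX K P = P * d⁄dX K S := by
    have h1 := logDeriv M
    rw [Polynomial.coe_neg, Polynomial.coe_mul, Polynomial.coe_X, ← derivative_coe] at h1
    have h2 : (X : PowerSeries K) * (d⁄dX K P - P * d⁄dX K S) = 0 := by
      rw [mul_sub, mul_left_comm, hXS, mul_neg, ← h1, hP]
      ring
    rcases mul_eq_zero.mp h2 with h | h
    · exact absurd h X_ne_zero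
    · exact sub_eq_zero.mp h
  have hE0 : constantCoeff E = 1 := by
    rw [hE]
    have := constantCoeff_subst hsub (exp K)
    rw [finsum_eq_single _ 0] at this
    · have h3 : MvPowerSeries.constantCoeff ((exp K).subst S) = 1 := by simpa using this
      exact h3
    · intro k hk
      have : MvPowerSeries.constantCoeff (S ^ k) = 0 := by
        rw [map_pow]
        have : MvPowerSeries.constantCoeff S = 0 := hS0
        rw [this, zero_pow hk]
      rw [this, smul_zero]
  have hP0 : constantCoeff P = 1 := by
    rw [hP, ← coeff_zero_eq_constantCoeff_apply, Polynomial.coeff_coe,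
      Polynomial.coeff_zero_eq_eval_zero, Matrix.eval_charpolyRev]
  have hEne : E ≠ 0 := by
    intro h
    rw [h, map_zero] at hE0
    exact zero_ne_one hE0
  have hEinv : E * E⁻¹ = 1 := PowerSeries.mul_inv_cancel _ (by rw [hE0]; exact one_ne_zero)
  have hconst : P * E⁻¹ = 1 := by
    apply derivative.ext
    · rw [Derivation.leibniz, derivative_inv', hP', hE']
      simp only [smul_eq_mul, Derivation.map_one_eq_zero]
      have : E⁻¹ ^ 2 * (E * d⁄dX K S) = E⁻¹ * d⁄dX K S := by
        rw [pow_two]
        calc E⁻¹ * E⁻¹ * (E * d⁄dX K S) = E⁻¹ * (E * E⁻¹) * d⁄dX K S := by ring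
          _ = E⁻¹ * d⁄dX K S := by rw [hEinv, mul_one]
      rw [neg_mul, this]
      ring
    · rw [map_mul, hP0, one_mul, map_one]
      have := congrArg constantCoeff hEinv
      rw [map_mul, hE0, one_mul, map_one] at this
      exact this
  calc P = P * (E⁻¹ * E) := by rw [mul_comm E⁻¹, hEinv, mul_one]
    _ = (P * E⁻¹) * E := by ring
    _ = E := by rw [hconst, one_mul]

end Groth.Agent.Helper5.Jacobi
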