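import Mathlib

open MvPolynomial

namespace Groth.Agent.Helper5.FqVanish

universe u

variable (K : Type u) [Field K] [Fintype K] (n : ℕ)

/-- the ideal generated by the `X_i^q - X_i` -/
noncomputable def I : Ideal (MvPolynomial (Fin n) K) :=
  Ideal.span (Set.range fun i : Fin n =>
        (MvPolynomial.X i ^ Fintype.card K - MvPolynomial.X i : MvPolynomial (Fin n) K))

lemma card_ge : 2 ≤ Fintype.card K := Fintype.one_lt_card

lemma eval_mem_I (p : MvPolynomial (Fin n) K) (hp : p ∈ I K n) (a : Fin n → K) :
    eval a p = 0 := by
  have : I K n ≤ RingHom.ker (eval a) := by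
    rw [I, Ideal.span_le]
    rintro _ ⟨i, rfl⟩
    simp [RingHom.mem_ker, FiniteField.pow_card]
  exact this hp

lemma monomial_red : ∀ (d : ℕ) (s : Fin n →₀ ℕ), (s.sum fun _ e => e) = d →
    ∃ r ∈ restrictDegree (Fin n) K (Fintype.card K - 1), monomial s (1 : K) - r ∈ I K n := by
  intro d
  induction d using Nat.strong_induction_on with
  | _ d ih =>
    intro s hs
    have hq := card_ge K
    by_cases h : ∀ i, s i ≤ Fintype.card K - 1
    · refine ⟨monomial s 1, ?_, by simp⟩
      rw [mem_restrictDegree]
      intro t ht i
      classical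
      rw [support_monomial] at ht
      simp only [one_ne_zero, if_false, Finset.mem_singleton] at ht
      rw [ht]; exact h i
    · push Not at h
      obtain ⟨i, hi⟩ := h
      have hi' : Fintype.card K ≤ s i := by omega
      set t : Fin n →₀ ℕ := s - Finsupp.single i (Fintype.card K) with ht
      have hst : s = t + Finsupp.single i (Fintype.card K) := by
        ext j
        by_cases hj : j = i
        · subst hj; simp [ht]; omega
        · simp [ht, Ne.symm hj]
      set s' : Fin n →₀ ℕ := t + Finsupp.single i 1 with hs'
      have hdeg : (s'.sum fun _ e => e) < d := by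
        rw [← hs, hst, hs']
        rw [Finsupp.sum_add_index' (by simp) (by simp), Finsupp.sum_add_index' (by simp) (by simp)]
        simp only [Finsupp.sum_single_index]
        omega
      obtain ⟨r, hr, hr'⟩ := ih _ hdeg s' rfl
      refine ⟨r, hr, ?_⟩
      have h1 : monomial s (1 : K) - monomial s' 1 =
          monomial t 1 * (X i ^ Fintype.card K - X i) := by
        rw [hst, hs', mul_sub]
        congr 1
        · rw [X_pow_eq_monomial, monomial_mul, one_mul]
        · rw [X, monomial_mul, one_mul]
      have h2 : monomial s (1 : K) - monomial s' 1 ∈ I K n := by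
        rw [h1]
        exact Ideal.mul_mem_left _ _ (Ideal.subset_span ⟨i, rfl⟩)
      have := Ideal.add_mem _ h2 hr'
      convert this using 1
      ring

lemma exists_red (p : MvPolynomial (Fin n) K) :
    ∃ r ∈ restrictDegree (Fin n) K (Fintype.card K - 1), p - r ∈ I K n := by
  induction p using MvPolynomial.induction_on' with
  | monomial u a =>
    obtain ⟨r, hr, hr'⟩ := monomial_red K n _ u rfl
    refine ⟨a • r, Submodule.smul_mem _ _ hr, ?_⟩
    have : monomial u a - a • r = C a * (monomial u 1 - r) := by
      rw [mul_sub, C_mul_monomial, mul_one, smul_eq_C_mul]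
    rw [this]
    exact Ideal.mul_mem_left _ _ hr'
  | add p q hp hq =>
    obtain ⟨r, hr, hr'⟩ := hp
    obtain ⟨r2, hr2, hr2'⟩ := hq
    refine ⟨r + r2, Submodule.add_mem _ hr hr2, ?_⟩
    have := Ideal.add_mem _ hr' hr2'
    convert this using 1
    ring

lemma eq_zero_of_restricted (r : MvPolynomial (Fin n) K)
    (hr : r ∈ restrictDegree (Fin n) K (Fintype.card K - 1))
    (h : ∀ a : Fin n → K, eval a r = 0) : r = 0 := by
  classical
  let e : Fin n ≃ ULift.{u} (Fin n) := Equiv.ulift.symm
  have hinj : Function.Injective (rename e : MvPolynomial (Fin n) K → _) :=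
    rename_injective _ e.injective
  apply hinj
  rw [map_zero]
  apply MvPolynomial.eq_zero_of_eval_eq_zero
  · intro v
    rw [eval_rename]
    exact h _
  · rw [mem_restrictDegree_iff_sup] at hr ⊢
    intro i
    obtain ⟨j, rfl⟩ := e.surjective i
    have := degreeOf_rename_of_injective (p := r) e.injective j
    rw [degreeOf, degreeOf] at this
    refine le_trans (le_of_eq ?_) (hr j)
    convert this

theorem main (p : MvPolynomial (Fin n) K) :
    (∀ a : Fin n → K, MvPolynomial.eval a p = 0) ↔ p ∈ I K n := by
  constructor
  · intro h
    obtain ⟨r, hr, hr'⟩ := exists_red K n p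
    have : r = 0 := by
      apply eq_zero_of_restricted K n r hr
      intro a
      have := eval_mem_I K n _ hr' a
      rw [map_sub, h a, zero_sub, neg_eq_zero] at this
      exact this
    rw [this, sub_zero] at hr'
    exact hr'
  · intro h a
    exact eval_mem_I K n p h a

end Groth.Agent.Helper5.FqVanish
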