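import Mathlib

open PowerSeries

namespace Groth.Agent.Helper5.LogExp

/-- geometric series -/
noncomputable def G : ℚ⟦X⟧ := PowerSeries.mk fun n => ((-1 : ℚ) ^ n)

lemma G_mul : G * (1 + X) = 1 := by
  ext n
  rw [mul_add, mul_one, map_add]
  cases n with
  | zero => simp [G]
  | succ n =>
    rw [coeff_succ_mul_X]
    simp [G, pow_succ]

lemma log_eq : (PowerSeries.mk fun m : ℕ => if m = 0 then (0 : ℚ) else (-1) ^ (m + 1) / (m : ℚ)) = log ℚ := by
  ext n
  simp [coeff_log]

lemma deriv_log' : d⁄dX ℚ (log ℚ) = G := by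
  rw [deriv_log]
  ext n
  simp [G]

lemma one_subst (g : ℚ⟦X⟧) (hg : HasSubst g) : (1 : ℚ⟦X⟧).subst g = 1 := by
  rw [← coe_substAlgHom hg, map_one]

lemma one_add_X_subst (g : ℚ⟦X⟧) (hg : HasSubst g) : (1 + X : ℚ⟦X⟧).subst g = 1 + g := by
  rw [subst_add hg, subst_X hg, one_subst g hg]

theorem part1 : (log ℚ).subst (exp ℚ - 1) = X := by
  have hs : HasSubst (exp ℚ - 1) := HasSubst.exp_sub_one
  apply derivative.ext
  · rw [derivative_subst hs, deriv_log']
    have h1 : d⁄dX ℚ (exp ℚ - 1) = exp ℚ := by
      rw [map_sub, derivative_exp]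
      simp
    rw [h1]
    have h2 : (G * (1 + X)).subst (exp ℚ - 1) = (1 : ℚ⟦X⟧).subst (exp ℚ - 1) := by rw [G_mul]
    rw [subst_mul hs, one_add_X_subst _ hs, one_subst _ hs] at h2
    simpa using h2
  · have h : (exp ℚ - 1 : ℚ⟦X⟧).constantCoeff = 0 := by
      rw [map_sub, map_one, constantCoeff_exp, sub_self]
    have := constantCoeff_subst_eq_zero h _ (constantCoeff_log (A := ℚ))
    rw [constantCoeff_X]
    exact this

lemma G_deriv : d⁄dX ℚ G = - (G * G) := by
  have h := congrArg (d⁄dX ℚ) G_mul
  rw [Derivation.leibniz] at h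
  simp only [map_add, Derivation.map_one_eq_zero, derivative_X, smul_eq_mul, zero_add, mul_one] at h
  -- h : G + (1+X) * G' = 0
  have h2 : d⁄dX ℚ G = d⁄dX ℚ G * (G * (1 + X)) := by rw [G_mul, mul_one]
  rw [h2]
  linear_combination G * h

theorem part2 : (exp ℚ).subst (log ℚ) = 1 + X := by
  have hs : HasSubst (log ℚ) := HasSubst.log
  set E := (exp ℚ).subst (log ℚ) with hE
  have hE' : d⁄dX ℚ E = E * G := by
    rw [hE, derivative_subst hs, derivative_exp, deriv_log']
  have hEG : E * G = 1 := by
    apply derivative.ext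
    · rw [Derivation.leibniz, hE', G_deriv]
      simp only [smul_eq_mul, Derivation.map_one_eq_zero]
      ring
    · rw [map_mul]
      have h1 : constantCoeff E = 1 := by
        rw [hE]
        have := constantCoeff_subst hs (exp ℚ)
        rw [finsum_eq_single _ 0] at this
        · have h3 : MvPowerSeries.constantCoeff ((exp ℚ).subst (log ℚ)) = 1 := by simpa using this
          exact h3
        · intro n hn
          have : MvPowerSeries.constantCoeff (log ℚ ^ n) = 0 := by
            rw [map_pow]
            have : MvPowerSeries.constantCoeff (log ℚ) = 0 := constantCoeff_log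
            rw [this, zero_pow hn]
          rw [this, smul_zero]
      have h2 : constantCoeff G = 1 := by
        simp [G, ← coeff_zero_eq_constantCoeff_apply]
      rw [h1, h2]; simp
  calc E = E * (G * (1 + X)) := by rw [G_mul, mul_one]
    _ = (E * G) * (1 + X) := by ring
    _ = 1 + X := by rw [hEG, one_mul]

end Groth.Agent.Helper5.LogExp
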