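import Mathlib

open Module

namespace Groth.Agent.Helper5.PairDet

universe u

theorem main (K : Type u) [Field K] (V W : Type u)
    [AddCommGroup V] [Module K V] [FiniteDimensional K V] [AddCommGroup W] [Module K W]
    [FiniteDimensional K W] (B : V →ₗ[K] W →ₗ[K] K) [B.IsPerfPair] (f : V →ₗ[K] V) (g : W →ₗ[K] W)
    (c : K) (hc : c ≠ 0) (hfg : ∀ (v : V) (w : W), B (f v) (g w) = c * B v w) :
    LinearMap.det f • (LinearMap.charpoly g).reverse =
      ((-1) ^ Module.finrank K W * c ^ Module.finrank K W) • (c⁻¹ • f).charpoly := by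
  classical
  let ι := Module.Free.ChooseBasisIndex K W
  let bW : Basis ι K W := Module.Free.chooseBasis K W
  let bV : Basis ι K V := bW.dualBasis.map B.toPerfPair.symm
  have hB : ∀ i j, B (bV i) (bW j) = if j = i then 1 else 0 := by
    intro i j
    simp only [bV, Basis.map_apply]
    rw [LinearMap.apply_symm_toPerfPair_self]
    simp [Finsupp.single_apply]
  set F := LinearMap.toMatrix bV bV f with hF
  set G := LinearMap.toMatrix bW bW g with hG
  have hf : ∀ i, f (bV i) = ∑ k, F k i • bV k := by
    intro i
    conv_lhs => rw [← bV.sum_repr (f (bV i))]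
    refine Finset.sum_congr rfl fun k _ => ?_
    rw [hF, LinearMap.toMatrix_apply]
  have hg : ∀ j, g (bW j) = ∑ l, G l j • bW l := by
    intro j
    conv_lhs => rw [← bW.sum_repr (g (bW j))]
    refine Finset.sum_congr rfl fun k _ => ?_
    rw [hG, LinearMap.toMatrix_apply]
  have key : F.transpose * G = c • (1 : Matrix ι ι K) := by
    ext i j
    have h1 := hfg (bV i) (bW j)
    rw [hf, hg, hB] at h1
    simp only [map_sum, map_smul, LinearMap.sum_apply, LinearMap.smul_apply, smul_eq_mul, hB] at h1
    rw [Matrix.mul_apply, Matrix.smul_apply, Matrix.one_apply, smul_eq_mul]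
    simp only [Matrix.transpose_apply]
    simp only [mul_ite, mul_one, mul_zero, Finset.sum_ite_eq, Finset.mem_univ, if_true] at h1
    rw [show (if i = j then (1 : K) else 0) = if j = i then 1 else 0 by
      simp only [eq_comm]]
    rw [mul_ite, mul_one, mul_zero, ← h1]
    refine Finset.sum_congr rfl fun k _ => ?_
    rw [mul_comm]
  have hcard : Module.finrank K W = Fintype.card ι := Module.finrank_eq_card_basis bW
  have hleft : (c⁻¹ • F.transpose) * G = 1 := by
    rw [Matrix.smul_mul, key, smul_smul, inv_mul_cancel₀ hc, one_smul]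
  have hGunit : IsUnit G := (Matrix.isUnit_iff_isUnit_det G).mpr (Matrix.isUnit_det_of_left_inverse hleft)
  have hGinv : G⁻¹ = c⁻¹ • F.transpose := Matrix.inv_eq_left_inv hleft
  have hdet : F.det * G.det = c ^ Fintype.card ι := by
    have := congrArg Matrix.det key
    rw [Matrix.det_mul, Matrix.det_transpose, Matrix.det_smul, Matrix.det_one, mul_one] at this
    exact this
  have hGdet : G.det ≠ 0 := by
    intro h0
    rw [h0, mul_zero] at hdet
    exact pow_ne_zero _ hc hdet.symm
  have h1 : LinearMap.det f = F.det := by rw [hF, LinearMap.det_toMatrix]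
  have h2 : LinearMap.charpoly g = G.charpoly := by rw [hG, LinearMap.charpoly_toMatrix]
  have h3 : (c⁻¹ • f).charpoly = (c⁻¹ • F.transpose).charpoly := by
    rw [← LinearMap.charpoly_toMatrix (c⁻¹ • f) bV, map_smul, ← hF, ← Matrix.transpose_smul,
      Matrix.charpoly_transpose]
  rw [h1, h2, h3, ← hGinv, Matrix.charpoly_inv G hGunit, Matrix.reverse_charpoly, hcard,
    Ring.inverse_eq_inv']
  rw [Polynomial.smul_eq_C_mul, Polynomial.smul_eq_C_mul]
  have : F.det = c ^ Fintype.card ι * G.det⁻¹ := by
    field_simp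
    exact hdet
  rw [this]
  simp only [map_mul, map_pow, map_neg, map_one]
  have hsq : ((-1 : Polynomial K) ^ Fintype.card ι) * ((-1) ^ Fintype.card ι) = 1 := by
    rw [← mul_pow]; simp
  linear_combination (-(Polynomial.C c ^ Fintype.card ι * Polynomial.C G.det⁻¹ * G.charpolyRev)) * hsq

end Groth.Agent.Helper5.PairDet
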