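import Mathlib

open PowerSeries

namespace Groth.Agent.Helper5.RatPS

universe u
variable {L : Type u} [Field L]

/-- the polynomial `Σ_j c_j X^(N-j)` -/
noncomputable def Qc (N : ℕ) (c : Fin (N + 1) → L) : Polynomial L :=
  ∑ j : Fin (N + 1), Polynomial.C (c j) * Polynomial.X ^ (N - (j : ℕ))

lemma coeff_mul_Qc (f : PowerSeries L) (N : ℕ) (c : Fin (N + 1) → L) (i : ℕ) :
    PowerSeries.coeff (i + N) (f * (Qc N c : PowerSeries L)) =
      ∑ j : Fin (N + 1), c j * PowerSeries.coeff (i + (j : ℕ)) f := by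
  have h1 : (Qc N c : PowerSeries L) =
      ∑ j : Fin (N + 1), PowerSeries.C (c j) * PowerSeries.X ^ (N - (j : ℕ)) := by
    rw [Qc]
    rw [← Polynomial.coeToPowerSeries.ringHom_apply, map_sum]
    refine Finset.sum_congr rfl fun j _ => ?_
    rw [Polynomial.coeToPowerSeries.ringHom_apply, Polynomial.coe_mul, Polynomial.coe_C,
      Polynomial.coe_pow, Polynomial.coe_X]
  rw [h1, Finset.mul_sum, map_sum]
  refine Finset.sum_congr rfl fun j _ => ?_
  have hj : (j : ℕ) ≤ N := Nat.lt_succ_iff.mp j.2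
  rw [show f * (PowerSeries.C (c j) * PowerSeries.X ^ (N - (j : ℕ))) =
      PowerSeries.C (c j) * (f * PowerSeries.X ^ (N - (j : ℕ))) by ring]
  rw [PowerSeries.coeff_C_mul, PowerSeries.coeff_mul_X_pow', if_pos (by omega)]
  rw [show i + N - (N - (j : ℕ)) = i + (j : ℕ) by omega]

lemma Qc_coeff (N : ℕ) (c : Fin (N + 1) → L) (j : Fin (N + 1)) :
    (Qc N c).coeff (N - (j : ℕ)) = c j := by
  rw [Qc, Polynomial.finsetSum_coeff]
  rw [Finset.sum_eq_single j]
  · simp
  · intro k _ hk
    rw [Polynomial.coeff_C_mul, Polynomial.coeff_X_pow, if_neg, mul_zero]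
    have hj : (j : ℕ) ≤ N := Nat.lt_succ_iff.mp j.2
    have hk' : (k : ℕ) ≤ N := Nat.lt_succ_iff.mp k.2
    intro h
    apply hk
    ext
    omega
  · simp

lemma Qc_of_poly (Q : Polynomial L) :
    Qc Q.natDegree (fun j => Q.coeff (Q.natDegree - (j : ℕ))) = Q := by
  ext k
  by_cases hk : k ≤ Q.natDegree
  · have := Qc_coeff Q.natDegree (fun j => Q.coeff (Q.natDegree - (j : ℕ)))
      ⟨Q.natDegree - k, by omega⟩
    simp only at this
    rw [show Q.natDegree - (Q.natDegree - k) = k by omega] at this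
    exact this
  · push Not at hk
    rw [Polynomial.coeff_eq_zero_of_natDegree_lt hk]
    rw [Qc, Polynomial.finsetSum_coeff]
    apply Finset.sum_eq_zero
    intro j _
    rw [Polynomial.coeff_C_mul, Polynomial.coeff_X_pow, if_neg, mul_zero]
    omega

theorem main (f : PowerSeries L) :
    (∃ P Q : Polynomial L, Q ≠ 0 ∧ f * (Q : PowerSeries L) = (P : PowerSeries L)) ↔
      ∃ M N : ℕ, Submodule.span L
          {v : Fin (N + 1) → L | ∃ i : ℕ, M ≤ i ∧ v = fun j : Fin (N + 1) => PowerSeries.coeff (i + (j : ℕ)) f} ≠ ⊤ := by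
  constructor
  · rintro ⟨P, Q, hQ, h⟩
    refine ⟨P.natDegree + 1, Q.natDegree, ?_⟩
    set N := Q.natDegree with hN
    set c : Fin (N + 1) → L := fun j => Q.coeff (N - (j : ℕ)) with hc
    let φ : (Fin (N + 1) → L) →ₗ[L] L :=
      ∑ j : Fin (N + 1), c j • LinearMap.proj j
    have hφ : ∀ v, φ v = ∑ j : Fin (N + 1), c j * v j := by
      intro v
      simp [φ, LinearMap.sum_apply]
    intro htop
    have hle : Submodule.span L
          {v : Fin (N + 1) → L | ∃ i : ℕ, P.natDegree + 1 ≤ i ∧ v = fun j : Fin (N + 1) => PowerSeries.coeff (i + (j : ℕ)) f} ≤ LinearMap.ker φ := by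
      rw [Submodule.span_le]
      rintro v ⟨i, hi, rfl⟩
      rw [SetLike.mem_coe, LinearMap.mem_ker, hφ]
      rw [← coeff_mul_Qc f N c i, hc, hN, Qc_of_poly, h, Polynomial.coeff_coe]
      apply Polynomial.coeff_eq_zero_of_natDegree_lt
      omega
    rw [htop, top_le_iff] at hle
    have h0 : φ (Pi.single 0 1) = 0 := by
      have : (Pi.single 0 1 : Fin (N + 1) → L) ∈ LinearMap.ker φ := by rw [hle]; trivial
      exact this
    rw [hφ, Finset.sum_eq_single 0] at h0
    · simp only [Pi.single_eq_same, mul_one, hc, Fin.val_zero, Nat.sub_zero] at h0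
      rw [hN] at h0
      exact hQ (Polynomial.leadingCoeff_eq_zero.mp h0)
    · intro j _ hj
      simp [Pi.single_eq_of_ne hj]
    · simp
  · rintro ⟨M, N, hne⟩
    obtain ⟨φ, hφ0, hφ⟩ := Submodule.exists_le_ker_of_lt_top _ (lt_top_iff_ne_top.mpr hne)
    set c : Fin (N + 1) → L := fun j => φ (fun k => if j = k then 1 else 0) with hc
    have hφv : ∀ v, φ v = ∑ j : Fin (N + 1), c j * v j := by
      intro v
      rw [LinearMap.pi_apply_eq_sum_univ φ v]
      refine Finset.sum_congr rfl fun j _ => ?_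
      rw [smul_eq_mul, mul_comm]
    have hQ : Qc N c ≠ 0 := by
      intro h0
      apply hφ0
      refine LinearMap.ext fun v => ?_
      rw [hφv]
      simp only [LinearMap.zero_apply]
      apply Finset.sum_eq_zero
      intro j _
      rw [← Qc_coeff N c j, h0]
      simp
    have hvan : ∀ i, M ≤ i → PowerSeries.coeff (i + N) (f * (Qc N c : PowerSeries L)) = 0 := by
      intro i hi
      rw [coeff_mul_Qc, ← hφv]
      have : (fun j : Fin (N + 1) => PowerSeries.coeff (i + (j : ℕ)) f) ∈ LinearMap.ker φ :=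
        hφ (Submodule.subset_span ⟨i, hi, rfl⟩)
      exact this
    refine ⟨PowerSeries.trunc (M + N) (f * (Qc N c : PowerSeries L)), Qc N c, hQ, ?_⟩
    ext k
    rw [Polynomial.coeff_coe, PowerSeries.coeff_trunc]
    split_ifs with hk
    · rfl
    · push Not at hk
      have := hvan (k - N) (by omega)
      rw [show k - N + N = k by omega] at this
      exact this

end Groth.Agent.Helper5.RatPS

namespace Groth.Agent.Helper5.RatPS

universe u v

theorem descend {L : Type u} {L' : Type v} [Field L] [Field L']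
    [Algebra L L'] (f : PowerSeries L) :
    (∃ P Q : Polynomial L', Q ≠ 0 ∧
        PowerSeries.map (algebraMap L L') f * (Q : PowerSeries L') = (P : PowerSeries L')) ↔
      ∃ P Q : Polynomial L, Q ≠ 0 ∧ f * (Q : PowerSeries L) = (P : PowerSeries L) := by
  constructor
  · intro h
    rw [main] at h ⊢
    obtain ⟨M, N, hne⟩ := h
    refine ⟨M, N, fun htop => hne ?_⟩
    -- the L-linear map L^(N+1) → L'^(N+1)
    let ι : (Fin (N + 1) → L) →ₗ[L] (Fin (N + 1) → L') :=
      { toFun := fun v j => algebraMap L L' (v j)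
        map_add' := fun v w => by ext j; simp
        map_smul' := fun r v => by ext j; simp [Algebra.smul_def] }
    set W : Set (Fin (N + 1) → L) :=
      {v | ∃ i : ℕ, M ≤ i ∧ v = fun j : Fin (N + 1) => PowerSeries.coeff (i + (j : ℕ)) f} with hW
    set W' : Set (Fin (N + 1) → L') :=
      {v | ∃ i : ℕ, M ≤ i ∧ v = fun j : Fin (N + 1) =>
        PowerSeries.coeff (i + (j : ℕ)) (PowerSeries.map (algebraMap L L') f)} with hW'
    have hsub : Submodule.span L W ≤ ((Submodule.span L' W').restrictScalars L).comap ι := by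
      rw [Submodule.span_le]
      rintro v ⟨i, hi, rfl⟩
      refine Submodule.subset_span ⟨i, hi, ?_⟩
      ext j
      simp [ι]
    rw [htop, top_le_iff] at hsub
    rw [eq_top_iff]
    intro v _
    have hv : v = ∑ j : Fin (N + 1), v j • ι (Pi.single j 1) := by
      ext k
      simp only [Finset.sum_apply, Pi.smul_apply, smul_eq_mul]
      rw [Finset.sum_eq_single k]
      · simp [ι]
      · intro j _ hj
        simp [ι, Pi.single_eq_of_ne (Ne.symm hj)]
      · simp
    rw [hv]
    refine Submodule.sum_mem _ fun j _ => Submodule.smul_mem _ _ ?_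
    have : (Pi.single j 1 : Fin (N + 1) → L) ∈
        ((Submodule.span L' W').restrictScalars L).comap ι := by rw [hsub]; trivial
    exact this
  · rintro ⟨P, Q, hQ, h⟩
    refine ⟨P.map (algebraMap L L'), Q.map (algebraMap L L'), ?_, ?_⟩
    · exact (Polynomial.map_ne_zero_iff (algebraMap L L').injective).mpr hQ
    · rw [Polynomial.polynomial_map_coe, Polynomial.polynomial_map_coe, ← map_mul, h]

end Groth.Agent.Helper5.RatPS
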